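import Groth.Agent.Lib.ML.Kaplansky
import Mathlib.RingTheory.LocalRing.ResidueField.Basic
import Mathlib.LinearAlgebra.Matrix.ToLin
import Mathlib.LinearAlgebra.Determinant

/-!
# Projective modules over local rings are free
-/

universe u

open scoped Classical

namespace GrothLib.ProjLocal

variable {R : Type u} [CommRing R] [IsLocalRing R] {P : Type u} [AddCommGroup P] [Module R P]

omit [IsLocalRing R] in
/-- Changing one coordinate. -/
theorem exists_shear {J : Type u} (S : Finset J) (j : J) (hj : j ∉ S) (c : J → R) :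
    ∃ e : (J →₀ R) ≃ₗ[R] (J →₀ R), ∀ v, e v = v - Finsupp.single j (∑ i ∈ S, c i * v i) := by
  let ψ : (J →₀ R) →ₗ[R] R := ∑ i ∈ S, c i • Finsupp.lapply i
  have hψ : ∀ v, ψ v = ∑ i ∈ S, c i * v i := fun v => by simp [ψ]
  have hψj : ∀ r, ψ (Finsupp.single j r) = 0 := fun r => by
    rw [hψ]
    exact Finset.sum_eq_zero fun i hi => by
      rw [Finsupp.single_eq_of_ne (fun h : i = j => hj (h ▸ hi)), mul_zero]
  let f : (J →₀ R) →ₗ[R] (J →₀ R) := LinearMap.id - (Finsupp.lsingle j).comp ψ
  let g : (J →₀ R) →ₗ[R] (J →₀ R) := LinearMap.id + (Finsupp.lsingle j).comp ψ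
  refine ⟨LinearEquiv.ofLinear f g ?_ ?_, fun v => ?_⟩
  · ext i : 2
    simp [f, g, hψj, map_add]
  · ext i : 2
    simp [f, g, hψj, map_sub]
  · change v - Finsupp.single j (ψ v) = _
    rw [hψ]

theorem exists_summand [Module.Projective R P] (x : P) :
    ∃ (k : ℕ) (f : (Fin k → R) →ₗ[R] P) (r : P →ₗ[R] (Fin k → R)), r ∘ₗ f = LinearMap.id ∧ f (r x) = x := by
  obtain ⟨s, hs⟩ := Module.projective_def'.1 (inferInstance : Module.Projective R P)
  let π : (P →₀ R) →ₗ[R] P := Finsupp.linearCombination R id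
  have hπ : ∀ y, π (s y) = y := fun y => LinearMap.congr_fun hs y
  have hne : ∃ n, ∃ b : Module.Basis P R (P →₀ R), (b.repr (s x)).support.card = n := ⟨_, Finsupp.basisSingleOne, rfl⟩
  obtain ⟨b, hb⟩ := Nat.find_spec hne
  let S := (b.repr (s x)).support
  let a := b.repr (s x)
  have hmin : ∀ j ∈ S, ∀ c : P → R, a j ≠ ∑ i ∈ S.erase j, c i * a i := by
    intro j hj c hc
    obtain ⟨e, he⟩ := exists_shear (S.erase j) j (Finset.notMem_erase _ _) c
    have hsupp : (e a).support ⊆ S.erase j := by
      intro i hi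
      rw [Finsupp.mem_support_iff, he] at hi
      rw [Finset.mem_erase]
      by_cases hij : i = j
      · subst hij
        exact absurd (by rw [Finsupp.sub_apply, Finsupp.single_eq_same, ← hc, sub_self]) hi
      · refine ⟨hij, ?_⟩
        rw [Finsupp.sub_apply, Finsupp.single_eq_of_ne hij, sub_zero] at hi
        exact Finsupp.mem_support_iff.2 hi
    have h2 := Nat.find_le (h := hne) (n := (e a).support.card)
      ⟨Module.Basis.ofRepr (b.repr.trans e), rfl⟩
    have h1 : (e a).support.card < Nat.find hne :=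
      (Finset.card_le_card hsupp).trans_lt ((Finset.card_erase_lt_of_mem hj).trans_le hb.le)
    omega
  let m : P → P → R := fun i k => b.repr (s (π (b i))) k
  have hcoef : ∀ k, a k = ∑ i ∈ S, a i * m i k := by
    intro k
    have h1 : s x = s (π (∑ i ∈ S, a i • b i)) := by
      have h2 : (∑ i ∈ S, a i • b i) = s x := by
        conv_rhs => rw [← b.linearCombination_repr (s x)]
        rfl
      rw [h2, hπ]
    conv_lhs => rw [show a k = b.repr (s x) k from rfl, h1]
    simp [m, Finsupp.finsetSum_apply]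
  have hres : ∀ i ∈ S, ∀ k ∈ S, m i k - (if i = k then 1 else 0) ∈ IsLocalRing.maximalIdeal R := by
    intro i hi k hk
    rw [IsLocalRing.mem_maximalIdeal, mem_nonunits_iff]
    intro hu
    obtain ⟨u, hu⟩ := hu
    have h0 : ∑ l ∈ S, a l * (m l k - (if l = k then 1 else 0)) = 0 := by
      simp only [mul_sub, Finset.sum_sub_distrib, mul_ite, mul_one, mul_zero, Finset.sum_ite_eq', if_pos hk]
      rw [← hcoef, sub_self]
    rw [← Finset.add_sum_erase _ _ hi, ← hu] at h0
    refine hmin i hi (fun l => -(↑u⁻¹ * (m l k - (if l = k then 1 else 0)))) ?_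
    rw [add_eq_zero_iff_eq_neg] at h0
    calc a i = (a i * u) * ↑u⁻¹ := (Units.mul_inv_cancel_right _ _).symm
      _ = _ := by
          rw [h0, neg_mul, Finset.sum_mul, ← Finset.sum_neg_distrib]
          exact Finset.sum_congr rfl fun l _ => by ring
  let n := S.card
  let σ : Fin n ≃ S := S.equivFin.symm
  let f : (Fin n → R) →ₗ[R] P := Fintype.linearCombination R fun i => π (b (σ i))
  let g : P →ₗ[R] (Fin n → R) := LinearMap.pi fun i => (Finsupp.lapply (σ i : P)).comp (b.repr.toLinearMap.comp s)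
  let M := LinearMap.toMatrix' (g ∘ₗ f)
  have hM : ∀ i l, M i l = m (σ l) (σ i) := fun i l => by
    simp [M, g, f, m, LinearMap.toMatrix'_apply, Fintype.linearCombination_apply, Pi.single_apply]
  have hdet : IsUnit M.det := by
    rw [← IsLocalRing.residue_ne_zero_iff_isUnit, RingHom.map_det]
    have h1 : (IsLocalRing.residue R).mapMatrix M = 1 := by
      ext i l
      have h := hres (σ l) (σ l).2 (σ i) (σ i).2
      rw [← Ideal.Quotient.eq_zero_iff_mem, map_sub, sub_eq_zero] at h
      rw [RingHom.mapMatrix_apply, Matrix.map_apply, hM, Matrix.one_apply]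
      refine h.trans ?_
      by_cases hil : i = l
      · subst hil; simp; rfl
      · rw [if_neg hil, if_neg (fun hc => hil (σ.injective (Subtype.ext hc)).symm), map_zero]; rfl
    rw [h1, Matrix.det_one]
    exact one_ne_zero
  have hunit : IsUnit (g ∘ₗ f) := by
    rw [← Matrix.isUnit_iff_isUnit_det] at hdet
    simpa [M] using hdet.map (Matrix.toLinAlgEquiv' (R := R) (n := Fin n))
  obtain ⟨h, hh⟩ := hunit
  have hinv : ∀ v, (↑h⁻¹ : Module.End R (Fin n → R)) (g (f v)) = v := fun v => by
    have := LinearMap.congr_fun (show (↑h⁻¹ : Module.End R (Fin n → R)) * ↑h = 1 from h.inv_mul) v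
    rwa [hh] at this
  refine ⟨n, f, (↑h⁻¹ : Module.End R (Fin n → R)) ∘ₗ g, LinearMap.ext hinv, ?_⟩
  have hx : x = f (fun i => a (σ i)) := by
    simp only [f, Fintype.linearCombination_apply]
    rw [σ.sum_comp (fun i : S => a i • π (b i)), Finset.univ_eq_attach,
      Finset.sum_attach S (fun i => a i • π (b i))]
    refine (hπ x).symm.trans ((congrArg π (b.linearCombination_repr (s x)).symm).trans ?_)
    rw [Finsupp.linearCombination_apply (R := R) (v := ⇑b), Finsupp.sum, map_sum]
    simp only [map_smul]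
    rfl
  rw [hx]
  exact congrArg f (hinv _)

/-- One step of the construction: an idempotent and a split part. -/
structure Step (P : Type u) [AddCommGroup P] [Module R P] (pr : P →ₗ[R] P) (x : P) where
  k : ℕ
  f : (Fin k → R) →ₗ[R] P
  r : P →ₗ[R] (Fin k → R)
  rf : ∀ v, r (f v) = v
  prf : ∀ v, pr (f v) = f v
  rpr : ∀ y, r (pr y) = r y
  hx : f (r x) = pr x

theorem nonempty_step [Module.Projective R P] (pr : P →ₗ[R] P) (hpr : ∀ y, pr (pr y) = pr y) (x : P) :
    Nonempty (Step P pr x) := by
  have : Module.Projective R (LinearMap.range pr) :=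
    Module.Projective.of_split (LinearMap.range pr).subtype pr.rangeRestrict (LinearMap.ext fun ⟨_, y, hy⟩ =>
      Subtype.ext (by subst hy; exact hpr y))
  obtain ⟨k, f, r, hrf, hx⟩ := exists_summand (R := R) (pr.rangeRestrict x)
  have hfix : ∀ w : LinearMap.range pr, pr.rangeRestrict (w : P) = w := fun ⟨_, y, hy⟩ =>
    Subtype.ext (by subst hy; exact hpr y)
  refine ⟨⟨k, (LinearMap.range pr).subtype ∘ₗ f, r ∘ₗ pr.rangeRestrict, fun v => ?_, fun v => ?_, fun y => ?_, ?_⟩⟩
  · exact (congrArg r (hfix _)).trans (LinearMap.congr_fun hrf v)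
  · exact congrArg Subtype.val (hfix (f v))
  · exact congrArg r (Subtype.ext (hpr y))
  · exact congrArg Subtype.val hx

theorem free_of_countablyGenerated [Module.Projective R P] (x : ℕ → P) (hx : Submodule.span R (Set.range x) = ⊤) :
    Module.Free R P := by
  have hnext : ∀ (q : { pr : P →ₗ[R] P // ∀ y, pr (pr y) = pr y }) (n : ℕ) (s : Step P q.1 (x n)),
      ∀ y, (q.1 - s.f ∘ₗ s.r) ((q.1 - s.f ∘ₗ s.r) y) = (q.1 - s.f ∘ₗ s.r) y := fun q n s y => by
    simp only [LinearMap.sub_apply, LinearMap.comp_apply, map_sub, q.2, s.prf, s.rpr, s.rf]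
    abel
  let Q : ℕ → { pr : P →ₗ[R] P // ∀ y, pr (pr y) = pr y } := fun n => Nat.rec ⟨LinearMap.id, fun _ => rfl⟩
    (fun m q => ⟨_, hnext q m (nonempty_step q.1 q.2 (x m)).some⟩) n
  let S : ∀ n, Step P (Q n).1 (x n) := fun n => (nonempty_step (Q n).1 (Q n).2 (x n)).some
  have hQ : ∀ n y, (Q (n + 1)).1 y = (Q n).1 y - (S n).f ((S n).r y) := fun n y => rfl
  have hprev : ∀ m n, m ≤ n → ∀ y, (Q n).1 ((Q m).1 y) = (Q n).1 y ∧ (Q m).1 ((Q n).1 y) = (Q n).1 y := by
    intro m n hmn
    induction n, hmn using Nat.le_induction with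
    | base => exact fun y => ⟨(Q m).2 y, (Q m).2 y⟩
    | succ n hmn ih =>
      intro y
      refine ⟨?_, ?_⟩
      · rw [hQ, hQ, (ih y).1, ← (S n).rpr ((Q m).1 y), (ih y).1, (S n).rpr]
      · rw [hQ, map_sub, (ih y).2]
        congr 1
        conv_rhs => rw [← (S n).prf, ← (ih _).2, (S n).prf]
  have hf : ∀ m n, m ≤ n → ∀ v, (Q m).1 ((S n).f v) = (S n).f v := fun m n h v => by
    rw [← (S n).prf, (hprev m n h _).2]
  have hkill : ∀ n m, n < m → ∀ v, (Q m).1 ((S n).f v) = 0 := fun n m h v => by
    rw [← (hprev (n + 1) m h _).1, hQ, (S n).prf, (S n).rf, sub_self, map_zero]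
  have horth : ∀ n m, n ≠ m → ∀ v, (S m).r ((S n).f v) = 0 := by
    intro n m h v
    rcases lt_or_gt_of_ne h with h | h
    · rw [← (S m).rpr, hkill n m h, map_zero]
    · rw [← hf (m + 1) n h, hQ, map_sub, (S m).rf, (S m).rpr, sub_self]
  let Φ : (DirectSum ℕ fun n => Fin (S n).k → R) →ₗ[R] P := DirectSum.toModule R ℕ P fun n => (S n).f
  have hr : ∀ m v, (S m).r (Φ v) = v m := by
    intro m
    have : (S m).r ∘ₗ Φ = DirectSum.component R ℕ (fun n => Fin (S n).k → R) m := by
      refine DirectSum.linearMap_ext R fun n => LinearMap.ext fun v => ?_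
      simp only [LinearMap.comp_apply, Φ, DirectSum.toModule_lof]
      by_cases h : n = m
      · subst h
        rw [(S n).rf, DirectSum.component.lof_self]
      · rw [horth n m h, DirectSum.component.of]
        rw [dif_neg h]
    exact LinearMap.congr_fun this
  have hinj : Function.Injective Φ := fun v w h => DFinsupp.ext fun m => by rw [← hr, h, hr]
  have hsur : Function.Surjective Φ := by
    have hsub : ∀ n y, y - (Q n).1 y ∈ LinearMap.range Φ := by
      intro n
      induction n with
      | zero => intro y; exact ⟨0, by simp [Q]⟩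
      | succ n ih =>
        intro y
        rw [hQ, show y - ((Q n).1 y - (S n).f ((S n).r y)) = (y - (Q n).1 y) + (S n).f ((S n).r y) by abel]
        exact add_mem (ih y) ⟨DirectSum.lof R ℕ _ n ((S n).r y), DirectSum.toModule_lof _ _ _⟩
    rw [← LinearMap.range_eq_top, eq_top_iff, ← hx, Submodule.span_le]
    rintro _ ⟨n, rfl⟩
    have := hsub (n + 1) (x n)
    rwa [hQ, (S n).hx, sub_self, sub_zero] at this
  exact Module.Free.of_equiv (LinearEquiv.ofBijective Φ ⟨hinj, hsur⟩)

/-- A projective module over a local ring is free. -/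
theorem free_of_projective [Module.Projective R P] : Module.Free R P := by
  obtain ⟨-, -, ι, N, hN, hc⟩ := (GrothLib.ML.projective_iff_flat_ml (R := R) (M := P)).1 inferInstance
  let e : DirectSum ι (fun i => N i) ≃ₗ[R] P := LinearEquiv.ofBijective (DirectSum.coeLinearMap N) hN
  have : Module.Projective R (DirectSum ι fun i => N i) := Module.Projective.of_equiv e.symm
  have : ∀ i, Module.Free R (N i) := fun i => by
    have : Module.Projective R (N i) := Module.Projective.of_split (DirectSum.lof R ι (fun i => N i) i)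
      (DirectSum.component R ι (fun i => N i) i) (LinearMap.ext fun x => by simp)
    obtain ⟨s, hs, hspan⟩ := hc i
    obtain ⟨x, hx⟩ := (hs.insert 0).exists_eq_range (Set.insert_nonempty _ _)
    refine free_of_countablyGenerated x ?_
    rw [← hx, eq_top_iff, ← hspan]
    exact Submodule.span_mono (Set.subset_insert _ _)
  exact Module.Free.of_equiv e

end GrothLib.ProjLocal
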